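import Groth.Agent.AgPol.K540.LawNodes
import Groth.Agent.AgPol.K817.Closed

/-!
# AUT: admissible core families have no automorphisms

`K472.AgAut.autTriv` : `K540.Ag.Node.AutTriv g d n` from the nodes Frame, Nhd, NormBc, Uniq, Closed.
-/

set_option autoImplicit false
universe u

open CategoryTheory Limits MonoidalCategory CartesianMonoidalCategory AlgebraicGeometry
open scoped MonObj

namespace K472.AgAut

open K117.Ag K540.Ag Groth.Agent.Grpsch.PicGrp K390.PnSec

variable {S : Scheme.{u}} {g d n m : ℕ}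

/-- The case of a family with a frame. -/
theorem eq_id_of_framed (hB : K117.Ag.Node.NormBc.{u} g n m) (hU : K117.Ag.Node.Uniq.{u} g d n m)
    (hC : K117.Ag.Node.Closed.{u} g d n m) {T : Over S} (x : Core T g) (hT : LN S T) (hx : Core.ok g d n T x)
    {I : Fin (m + 2) → (Fin (2 * g) → Fin n)} (hI : Framed I T x) (e : x.X ≅ x.X) (he : IsMonHom e.hom)
    (hc : pull e.hom.left x.c = x.c) (hs : ∀ i, x.σ i ≫ e.hom = x.σ i) : e.hom.left = 𝟙 _ := by
  obtain ⟨r, hr⟩ := hI
  have h4 : e.hom.left ≫ r = r := hU T x hT hx I _ _ (hB.iso x x I r e he hc hs hr) hr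
  have hcl : IsClosedImmersion (liftP r x.X.hom) := hC T x hT hx I r hr
  rw [← cancel_mono (liftP r x.X.hom)]
  apply hom_ext_over
  · rw [Category.assoc, liftP_toZ, h4, Category.id_comp, liftP_toZ]
  · rw [Category.assoc, liftP_toBase, Category.id_comp, liftP_toBase]
    exact Over.w e.hom

/-- **AUT** admissible core families have no automorphisms. -/
theorem autTriv (hF : K117.Ag.Node.Frame.{u} g d n m) (hN : K117.Ag.Node.Nhd.{u} g d n m)
    (hB : K117.Ag.Node.NormBc.{u} g n m) (hU : K117.Ag.Node.Uniq.{u} g d n m)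
    (hC : K117.Ag.Node.Closed.{u} g d n m) : K540.Ag.Node.AutTriv.{u} g d n := by
  intro S T x hT hx e he hc hs
  have hTN : IsLocallyNoetherian T.left := hT
  have key : ∀ t : T.left, ∃ U : T.left.Opens, t ∈ U ∧
      pullback.fst x.X.hom U.ι ≫ e.hom.left = pullback.fst x.X.hom U.ι := by
    intro t
    let Ω := AlgebraicClosure (T.left.residueField t)
    let t' : Spec (CommRingCat.of Ω) ⟶ T.left :=
      Spec.map (CommRingCat.ofHom (algebraMap (T.left.residueField t) Ω)) ≫ T.left.fromSpecResidueField t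
    have ht' : t ∈ Set.range t' := by
      refine ⟨IsLocalRing.closedPoint Ω, ?_⟩
      have h1 : t' (IsLocalRing.closedPoint Ω) ∈ Set.range (T.left.fromSpecResidueField t) :=
        ⟨Spec.map (CommRingCat.ofHom (algebraMap (T.left.residueField t) Ω)) (IsLocalRing.closedPoint Ω), rfl⟩
      rw [Scheme.range_fromSpecResidueField] at h1
      exact h1
    let k : Over.mk (t' ≫ T.hom) ⟶ T := Over.homMk t' rfl
    obtain ⟨I, hI⟩ := hF Ω (t' ≫ T.hom) (x.pull k) (K817.Closed.ok_pull k hx)
    obtain ⟨U, hUt, hfr⟩ := hN T x hT hx I Ω t' hI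
    refine ⟨U, hUt ht', ?_⟩
    have hLN : LN S (resO T U) := inferInstanceAs (IsLocallyNoetherian (U : Scheme.{u}))
    have h1 : CM U.ι (x.pull (resH T U)) x (pullback.fst x.X.hom U.ι) := CM.pull (resH T U) x
    have h2 : CM (𝟙 T.left) x x e.hom.left := by
      refine ⟨GM.ofIso e, hc, fun i => ?_⟩
      rw [← Over.comp_left, hs]
      exact (Category.id_comp _).symm
    have h3 : CM U.ι (x.pull (resH T U)) x (pullback.fst x.X.hom U.ι ≫ e.hom.left) :=
      cast_base (h1.comp h2) (Category.comp_id _)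
    obtain ⟨l, hl, hl'⟩ := h1.lift (f' := 𝟙 (resO T U).left) (cast_base h3 (Category.id_comp _).symm)
    obtain ⟨e', rfl, he'⟩ := hl'.gm.exists_iso
    have h5 : e'.hom.left = 𝟙 _ :=
      eq_id_of_framed hB hU hC (x.pull (resH T U)) hLN (K817.Closed.ok_pull (resH T U) hx) hfr e' he' hl'.cls
        (fun i => by
          ext1
          exact (hl'.sec i).trans (Category.id_comp _))
    refine hl.symm.trans ((congrArg (· ≫ pullback.fst x.X.hom U.ι) h5).trans (Category.id_comp _))
  ext1
  change e.hom.left = 𝟙 _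
  refine Scheme.hom_ext_of_forall _ _ fun z => ?_
  obtain ⟨U, hzU, h⟩ := key (x.X.hom z)
  refine ⟨x.X.hom ⁻¹ᵁ U, hzU, ?_⟩
  have h1 : pullback.lift (x.X.hom ⁻¹ᵁ U).ι (x.X.hom ∣_ U) (morphismRestrict_ι _ _).symm ≫
      pullback.fst x.X.hom U.ι = (x.X.hom ⁻¹ᵁ U).ι := pullback.lift_fst _ _ _
  rw [← h1, Category.assoc, h, Category.comp_id]

end K472.AgAut
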